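import Cfsg.Agent.OddHalf.D7F4Ex.Loc

section


/-!
# The parabolic `P_s = Q_s L_s` of `F₄(q)`, ALL even `q` (helper866)

`LocA` = `Loc` of helper250's `OddHalf/D7F4Ex/Loc.lean` without the field `big` (`q > 2`); the basic theorems again.
-/

set_option autoImplicit false
set_option linter.unusedSectionVars false

namespace Cfsg.Agent.Omega.All.F4K

open Subgroup
open Cfsg.Agent.OddHalf.D7F4Ex (J Sp ng fl op thd wt ws ng_ng ng_ne op_op fl_fl fl_self fl_ne)
open Cfsg.Agent.OddHalf.D7F4Ex.Loc (gV Xs Vs Qs Ps zero_of_add self_of_add inv_of_add X_le_V V_le_Q Q_le_P v_mem z_mem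
  c_mem l_mem th_mem)

variable {F : Type*} [Field F] {G : Type*} [Group G]

/-- The relations. -/
structure LocA (x0 : F → G) (v : J → F → G) (z : Sp → F → G) (c : J → F → G) (l : J → J → F → G)
    (th : (Fin 3 → Fˣ) →* G) : Prop where
  two : ∀ a : F, a + a = 0
  x0_add : ∀ a b, x0 (a + b) = x0 a * x0 b
  v_add : ∀ j a b, v j (a + b) = v j a * v j b
  z_add : ∀ i a b, z i (a + b) = z i a * z i b
  c_add : ∀ j a b, c j (a + b) = c j a * c j b
  l_add : ∀ j k a b, j.1 ≠ k.1 → l j k (a + b) = l j k a * l j k b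
  l_symm : ∀ j k a, l j k a = l k j a
  x0_inj : ∀ a, x0 a = 1 → a = 0
  xv : ∀ a j b, x0 a = v j b → b = 0
  x0_v : ∀ a j b, x0 a * v j b = v j b * x0 a
  x0_z : ∀ a j b, x0 a * z j b = z j b * x0 a
  x0_c : ∀ a j b, x0 a * c j b = c j b * x0 a
  x0_l : ∀ a j k b, j.1 ≠ k.1 → x0 a * l j k b = l j k b * x0 a
  v_v : ∀ j a k b, v j a * v k b = v k b * v j a
  v_z : ∀ j a i b, v j a * z i b = z i b * v j a
  z_z : ∀ i a j b, j ≠ op i → z i a * z j b = z j b * z i a
  z_op : ∀ i a b, z i a * z (op i) b * (z i a)⁻¹ = x0 (a * b) * z (op i) b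
  c_v : ∀ k a b, c k a * v (ng k) b * (c k a)⁻¹ = x0 (a * b) * v k (a ^ 2 * b) * v (ng k) b
  c_v' : ∀ k a j b, j ≠ ng k → c k a * v j b = v j b * c k a
  c_z : ∀ k a i b, i k.1 ≠ k.2 → c k a * z i b * (c k a)⁻¹ = z (fl i k.1) (a * b) * z i b
  c_z' : ∀ k a i b, i k.1 = k.2 → c k a * z i b = z i b * c k a
  l_v : ∀ a b s u, a.1 ≠ b.1 → l a b s * v (ng a) u * (l a b s)⁻¹ = v b (s * u) * v (ng a) u
  l_v' : ∀ a b s j u, a.1 ≠ b.1 → j ≠ ng a → j ≠ ng b → l a b s * v j u = v j u * l a b s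
  l_z : ∀ a b s i u, a.1 ≠ b.1 → i a.1 ≠ a.2 → i b.1 ≠ b.2 → l a b s * z i u * (l a b s)⁻¹ =
    z (fl (fl i a.1) b.1) (s * u) * v (thd a.1 b.1, i (thd a.1 b.1)) (s * u ^ 2) * z i u
  l_z' : ∀ a b s i u, a.1 ≠ b.1 → (i a.1 = a.2 ∨ i b.1 = b.2) → l a b s * z i u = z i u * l a b s
  l_c : ∀ a b s u, a.1 ≠ b.1 → l a b s * c (ng a) u * (l a b s)⁻¹ =
    c b (s * u) * l b (ng a) (s * u ^ 2) * c (ng a) u
  th_x0 : ∀ ν a, th ν * x0 a = x0 a * th ν
  th_v : ∀ ν j a, th ν * v j a * (th ν)⁻¹ = v j ((wt ν j : F) * a)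
  th_z : ∀ ν i a, th ν * z i a * (th ν)⁻¹ = z i ((ws ν i : F) * a)
  th_c : ∀ ν j a, th ν * c j a * (th ν)⁻¹ = c j ((wt ν j : F) * a)
  th_l : ∀ ν j k a, j.1 ≠ k.1 → th ν * l j k a * (th ν)⁻¹ = l j k ((wt ν j : F) * (wt ν k : F) * a)

namespace LocA

variable {x0 : F → G} {v : J → F → G} {z : Sp → F → G} {c : J → F → G} {l : J → J → F → G}
  {th : (Fin 3 → Fˣ) →* G}

section basic

variable (L : LocA x0 v z c l th)

include L

theorem mem_X {g : G} : g ∈ Xs x0 ↔ ∃ a, g = x0 a := by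
  constructor
  · intro h
    induction h using closure_induction with
    | mem x hx => obtain ⟨a, rfl⟩ := hx; exact ⟨a, rfl⟩
    | one => exact ⟨0, (zero_of_add L.x0_add).symm⟩
    | mul x y _ _ hx hy =>
      obtain ⟨a, rfl⟩ := hx
      obtain ⟨b, rfl⟩ := hy
      exact ⟨a + b, (L.x0_add a b).symm⟩
    | inv x _ hx =>
      obtain ⟨a, rfl⟩ := hx
      exact ⟨a, inv_of_add L.two L.x0_add a⟩
  · rintro ⟨a, rfl⟩
    exact subset_closure ⟨a, rfl⟩

theorem x0_mem (a : F) : x0 a ∈ Xs x0 := subset_closure ⟨a, rfl⟩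

/-- `X` is central in `P`. -/
theorem XP {x p : G} (hx : x ∈ Xs x0) (hp : p ∈ Ps x0 v z c l th) : x * p = p * x := by
  obtain ⟨a, rfl⟩ := L.mem_X.1 hx
  have hle : Ps x0 v z c l th ≤ centralizer {x0 a} := by
    rw [Ps, closure_le]
    rintro g hg
    rw [SetLike.mem_coe, mem_centralizer_singleton_iff]
    rcases hg with (⟨b, rfl⟩ | ⟨j, b, rfl⟩) | ⟨i, b, rfl⟩ | ⟨j, b, rfl⟩ | ⟨j, k, b, h, rfl⟩ | ⟨ν, rfl⟩
    · rw [← L.x0_add, ← L.x0_add, add_comm]
    · rw [L.x0_v]
    · rw [L.x0_z]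
    · rw [L.x0_c]
    · rw [L.x0_l _ _ _ _ h]
    · rw [L.th_x0]
  exact (mem_centralizer_singleton_iff.1 (hle hp)).symm

/-- `V` is central in `Q`. -/
theorem VQ {y q : G} (hy : y ∈ Vs x0 v) (hq : q ∈ Qs x0 v z) : y * q = q * y := by
  have key : ∀ g ∈ gV x0 v, Qs x0 v z ≤ centralizer {g} := by
    intro g hg
    rw [Qs, closure_le]
    intro r hr
    rw [SetLike.mem_coe, mem_centralizer_singleton_iff]
    rcases hg with ⟨a, rfl⟩ | ⟨j, a, rfl⟩
    · rcases hr with (⟨b, rfl⟩ | ⟨k, b, rfl⟩) | ⟨i, b, rfl⟩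
      · rw [← L.x0_add, ← L.x0_add, add_comm]
      · rw [L.x0_v]
      · rw [L.x0_z]
    · rcases hr with (⟨b, rfl⟩ | ⟨k, b, rfl⟩) | ⟨i, b, rfl⟩
      · rw [L.x0_v]
      · rw [L.v_v]
      · rw [L.v_z]
  have hle : Vs x0 v ≤ centralizer {q} := by
    rw [Vs, closure_le]
    intro g hg
    rw [SetLike.mem_coe, mem_centralizer_singleton_iff]
    exact (mem_centralizer_singleton_iff.1 (key g hg hq)).symm
  exact mem_centralizer_singleton_iff.1 (hle hy)

theorem VV {y q : G} (hy : y ∈ Vs x0 v) (hq : q ∈ Vs x0 v) : y * q = q * y := L.VQ (z := z) hy (V_le_Q hq)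

theorem V2 {y : G} (hy : y ∈ Vs x0 v) : y * y = 1 := by
  induction hy using closure_induction with
  | mem x hx =>
    rcases hx with ⟨a, rfl⟩ | ⟨j, a, rfl⟩
    · exact self_of_add L.two L.x0_add a
    · exact self_of_add L.two (L.v_add j) a
  | one => rw [mul_one]
  | mul x y hx hy ih1 ih2 =>
    have h1 := L.VV hx hy
    calc x * y * (x * y) = x * (y * x) * y := by group
      _ = (x * x) * (y * y) := by rw [← h1]; group
      _ = 1 := by rw [ih1, ih2, one_mul]
  | inv x _ ih => rw [← mul_inv_rev, ih, inv_one]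

/-- commutators of elements of `Q` lie in `X` -/
theorem z_conj (i : Sp) (a : F) (j : Sp) (b : F) :
    z i a * z j b * (z i a)⁻¹ = x0 (if j = op i then a * b else 0) * z j b := by
  split_ifs with h
  · rw [h, L.z_op]
  · rw [zero_of_add L.x0_add, one_mul, L.z_z i a j b h, mul_inv_cancel_right]

/-- the homomorphism `q ↦ [q, z i b]` -/
theorem exists_beta {q : G} (hq : q ∈ Qs x0 v z) :
    ∃ a : Sp → F, ∀ i b, q * z i b * q⁻¹ = x0 (a (op i) * b) * z i b := by
  induction hq using closure_induction with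
  | mem x hx =>
    rcases hx with (⟨a, rfl⟩ | ⟨j, a, rfl⟩) | ⟨j, a, rfl⟩
    · exact ⟨0, fun i b => by
        rw [Pi.zero_apply, zero_mul, zero_of_add L.x0_add, one_mul, L.x0_z, mul_inv_cancel_right]⟩
    · exact ⟨0, fun i b => by
        rw [Pi.zero_apply, zero_mul, zero_of_add L.x0_add, one_mul, L.v_z, mul_inv_cancel_right]⟩
    · refine ⟨Pi.single j a, fun i b => ?_⟩
      rw [L.z_conj]
      by_cases h : i = op j
      · rw [if_pos h, h, op_op, Pi.single_eq_same]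
      · rw [if_neg h, Pi.single_eq_of_ne, zero_mul]
        intro h2; apply h; rw [← h2, op_op]
  | one => exact ⟨0, fun i b => by
      rw [Pi.zero_apply, zero_mul, zero_of_add L.x0_add, one_mul, inv_one, mul_one]⟩
  | mul x y hx hy ih1 ih2 =>
    obtain ⟨a, ha⟩ := ih1
    obtain ⟨a', ha'⟩ := ih2
    refine ⟨a + a', fun i b => ?_⟩
    have h1 := L.XP (c := c) (l := l) (th := th) (L.x0_mem (a' (op i) * b)) (Q_le_P hx)
    calc x * y * z i b * (x * y)⁻¹ = x * (y * z i b * y⁻¹) * x⁻¹ := by group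
      _ = (x * x0 (a' (op i) * b)) * z i b * x⁻¹ := by rw [ha']; group
      _ = x0 (a' (op i) * b) * (x * z i b * x⁻¹) := by rw [← h1]; group
      _ = x0 ((a + a') (op i) * b) * z i b := by
        rw [ha, ← mul_assoc, ← L.x0_add, Pi.add_apply, add_mul, add_comm]
  | inv x hx ih =>
    obtain ⟨a, ha⟩ := ih
    refine ⟨a, fun i b => ?_⟩
    have h1 := L.XP (c := c) (l := l) (th := th) (L.x0_mem (a (op i) * b)) (Q_le_P (inv_mem hx))
    have h2 := ha i b
    have h3 : z i b = x⁻¹ * (x0 (a (op i) * b) * z i b) * x := by rw [← h2]; group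
    have h4 : x⁻¹ * z i b * x = (x0 (a (op i) * b))⁻¹ * z i b := by
      calc x⁻¹ * z i b * x = (x0 (a (op i) * b))⁻¹ * (x0 (a (op i) * b) * x⁻¹) * z i b * x := by group
        _ = (x0 (a (op i) * b))⁻¹ * (x⁻¹ * (x0 (a (op i) * b) * z i b) * x) := by rw [h1]; group
        _ = _ := by rw [← h3]
    rw [inv_inv, h4, inv_of_add L.two L.x0_add]

theorem beta_unique {q : G} {a a' : Sp → F} (h : ∀ i b, q * z i b * q⁻¹ = x0 (a (op i) * b) * z i b)
    (h' : ∀ i b, q * z i b * q⁻¹ = x0 (a' (op i) * b) * z i b) : a = a' := by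
  funext i
  have h1 := mul_right_cancel ((h (op i) 1).symm.trans (h' (op i) 1))
  rw [op_op, mul_one, mul_one] at h1
  have h2 : x0 (a i + a' i) = 1 := by rw [L.x0_add, h1, self_of_add L.two L.x0_add]
  have h3 := L.x0_inj _ h2
  have h4 := L.two (a' i)
  calc a i = (a i + a' i) + a' i := by rw [add_assoc, h4, add_zero]
    _ = a' i := by rw [h3, zero_add]

theorem QQ {y q : G} (hy : y ∈ Qs x0 v z) (hq : q ∈ Qs x0 v z) : y * q * y⁻¹ * q⁻¹ ∈ Xs x0 := by
  obtain ⟨a, ha⟩ := L.exists_beta hy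
  induction hq using closure_induction with
  | mem x hx =>
    rcases hx with hx | ⟨j, b, rfl⟩
    · have hx' : x ∈ Vs x0 v := subset_closure hx
      have h1 := L.VQ hx' hy
      rw [← h1, mul_inv_cancel_right, mul_inv_cancel]; exact one_mem _
    · rw [ha, mul_inv_cancel_right]; exact L.x0_mem _
  | one => rw [mul_one, mul_inv_cancel, inv_one, mul_one]; exact one_mem _
  | mul x w hx hw ih1 ih2 =>
    have h1 := L.XP (c := c) (l := l) (th := th) ih2 (Q_le_P (inv_mem hx))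
    have e : y * (x * w) * y⁻¹ * (x * w)⁻¹ = y * x * y⁻¹ * ((y * w * y⁻¹ * w⁻¹) * x⁻¹) := by group
    rw [e, h1, ← mul_assoc]
    exact mul_mem ih1 ih2
  | inv x hx ih =>
    have h1 := L.XP (c := c) (l := l) (th := th) (inv_mem ih) (Q_le_P hx)
    have e : y * x⁻¹ * y⁻¹ * x⁻¹⁻¹ = x⁻¹ * ((y * x * y⁻¹ * x⁻¹)⁻¹ * x) := by group
    rw [e, h1, inv_mul_cancel_left]
    exact inv_mem ih

theorem Q2 {q : G} (hq : q ∈ Qs x0 v z) : q * q ∈ Vs x0 v := by
  induction hq using closure_induction with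
  | mem x hx =>
    rcases hx with hx | ⟨j, b, rfl⟩
    · have hx' : x ∈ Vs x0 v := subset_closure hx
      exact mul_mem hx' hx'
    · rw [self_of_add L.two (L.z_add j)]; exact one_mem _
  | one => rw [mul_one]; exact one_mem _
  | mul x w hx hw ih1 ih2 =>
    have h1 := X_le_V (v := v) (L.QQ hw hx)
    have h2 := L.VQ ih2 (mul_mem hw hx)
    have e : x * w * (x * w) = (x * x) * (x⁻¹ * (w * x * w⁻¹ * x⁻¹) * x) * (w * w) := by group
    rw [e, mul_assoc x⁻¹, L.VQ h1 hx, inv_mul_cancel_left]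
    exact mul_mem (mul_mem ih1 h1) ih2
  | inv x hx ih => rw [← mul_inv_rev]; exact inv_mem ih

/-! ### `P` normalises `V` and `Q` -/

theorem th_inv (ν : Fin 3 → Fˣ) : (th ν)⁻¹ = th ν⁻¹ := (map_inv th ν).symm

theorem gen_inv {g : G} (hg : g ∈ gV x0 v ∨ (∃ i a, g = z i a) ∨ (∃ j a, g = c j a) ∨
    (∃ j k a, j.1 ≠ k.1 ∧ g = l j k a) ∨ ∃ ν, g = th ν) :
    g⁻¹ ∈ gV x0 v ∨ (∃ i a, g⁻¹ = z i a) ∨ (∃ j a, g⁻¹ = c j a) ∨
    (∃ j k a, j.1 ≠ k.1 ∧ g⁻¹ = l j k a) ∨ ∃ ν, g⁻¹ = th ν := by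
  rcases hg with (⟨b, rfl⟩ | ⟨j, b, rfl⟩) | ⟨i, b, rfl⟩ | ⟨j, b, rfl⟩ | ⟨j, k, b, h, rfl⟩ | ⟨ν, rfl⟩
  · exact Or.inl (Or.inl ⟨b, inv_of_add L.two L.x0_add b⟩)
  · exact Or.inl (Or.inr ⟨j, b, inv_of_add L.two (L.v_add j) b⟩)
  · exact Or.inr (Or.inl ⟨i, b, inv_of_add L.two (L.z_add i) b⟩)
  · exact Or.inr (Or.inr (Or.inl ⟨j, b, inv_of_add L.two (L.c_add j) b⟩))
  · exact Or.inr (Or.inr (Or.inr (Or.inl ⟨j, k, b, h, inv_of_add L.two (fun a b => L.l_add j k a b h) b⟩)))
  · exact Or.inr (Or.inr (Or.inr (Or.inr ⟨ν⁻¹, L.th_inv ν⟩)))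

/-- a subgroup is normalised by `P` as soon as it is by the generators -/
theorem P_norm {R : Subgroup G} (h : ∀ g, (g ∈ gV x0 v ∨ (∃ i a, g = z i a) ∨ (∃ j a, g = c j a) ∨
    (∃ j k a, j.1 ≠ k.1 ∧ g = l j k a) ∨ ∃ ν, g = th ν) → ∀ r ∈ R, g * r * g⁻¹ ∈ R) {p r : G}
    (hp : p ∈ Ps x0 v z c l th) (hr : r ∈ R) : p * r * p⁻¹ ∈ R := by
  have hle : Ps x0 v z c l th ≤ normalizer (R : Set G) := by
    rw [Ps, closure_le]
    intro g hg
    rw [SetLike.mem_coe, mem_normalizer_iff]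
    intro r
    refine ⟨fun hr => h g hg r hr, fun hr => ?_⟩
    have h1 := h g⁻¹ (L.gen_inv hg) _ hr
    have e : g⁻¹ * (g * r * g⁻¹) * g⁻¹⁻¹ = r := by group
    rwa [e] at h1
  exact (mem_normalizer_iff.1 (hle hp) r).1 hr

theorem thd_ne {a b : Fin 3} (h : a ≠ b) : thd a b ≠ a ∧ thd a b ≠ b := by
  revert a b; decide

theorem PV {p y : G} (hp : p ∈ Ps x0 v z c l th) (hy : y ∈ Vs x0 v) : p * y * p⁻¹ ∈ Vs x0 v := by
  refine L.P_norm (fun g hg r hr => ?_) hp hy
  induction hr using closure_induction with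
  | mem x hx =>
    have hx' : x ∈ Vs x0 v := subset_closure hx
    have triv : g * x = x * g → g * x * g⁻¹ ∈ Vs x0 v := fun h => by
      rw [h, mul_inv_cancel_right]; exact hx'
    rcases hg with hg | ⟨i, b, rfl⟩ | ⟨j, b, rfl⟩ | ⟨j, k, b, h, rfl⟩ | ⟨ν, rfl⟩
    · exact triv (L.VV (z := z) (subset_closure hg) hx')
    · exact triv (L.VQ hx' (z_mem i b)).symm
    · rcases hx with ⟨a, rfl⟩ | ⟨m, a, rfl⟩
      · exact triv (L.x0_c a j b).symm
      · by_cases h : m = ng j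
        · rw [h, L.c_v]
          exact mul_mem (mul_mem (X_le_V (L.x0_mem _)) (v_mem _ _)) (v_mem _ _)
        · exact triv (L.c_v' _ _ _ _ h)
    · rcases hx with ⟨a, rfl⟩ | ⟨m, a, rfl⟩
      · exact triv (L.x0_l a j k b h).symm
      · by_cases h1 : m = ng j
        · rw [h1, L.l_v _ _ _ _ h]
          exact mul_mem (v_mem _ _) (v_mem _ _)
        · by_cases h2 : m = ng k
          · rw [h2, L.l_symm, L.l_v _ _ _ _ (Ne.symm h)]
            exact mul_mem (v_mem _ _) (v_mem _ _)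
          · exact triv (L.l_v' _ _ _ _ _ h h1 h2)
    · rcases hx with ⟨a, rfl⟩ | ⟨m, a, rfl⟩
      · exact triv (L.th_x0 ν a)
      · rw [L.th_v]; exact v_mem _ _
  | one => rw [mul_one, mul_inv_cancel]; exact one_mem _
  | mul x w _ _ ih1 ih2 =>
    have e : g * (x * w) * g⁻¹ = (g * x * g⁻¹) * (g * w * g⁻¹) := by group
    rw [e]; exact mul_mem ih1 ih2
  | inv x _ ih =>
    have e : g * x⁻¹ * g⁻¹ = (g * x * g⁻¹)⁻¹ := by group
    rw [e]; exact inv_mem ih

theorem PQ {p y : G} (hp : p ∈ Ps x0 v z c l th) (hy : y ∈ Qs x0 v z) : p * y * p⁻¹ ∈ Qs x0 v z := by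
  refine L.P_norm (fun g hg r hr => ?_) hp hy
  have hgP : g ∈ Ps x0 v z c l th := subset_closure hg
  induction hr using closure_induction with
  | mem x hx =>
    have hx' : x ∈ Qs x0 v z := subset_closure hx
    have triv : g * x = x * g → g * x * g⁻¹ ∈ Qs x0 v z := fun h => by
      rw [h, mul_inv_cancel_right]; exact hx'
    rcases hx with hx | ⟨i, a, rfl⟩
    · exact V_le_Q (L.PV hgP (subset_closure hx))
    rcases hg with hg | ⟨j, b, rfl⟩ | ⟨j, b, rfl⟩ | ⟨j, k, b, h, rfl⟩ | ⟨ν, rfl⟩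
    · exact triv (L.VQ (subset_closure hg) hx')
    · exact mul_mem (mul_mem (z_mem _ _) (z_mem _ _)) (inv_mem (z_mem _ _))
    · by_cases h : i j.1 = j.2
      · exact triv (L.c_z' _ _ _ _ h)
      · rw [L.c_z _ _ _ _ h]
        exact mul_mem (z_mem _ _) (z_mem _ _)
    · by_cases h1 : i j.1 = j.2
      · exact triv (L.l_z' _ _ _ _ _ h (Or.inl h1))
      · by_cases h2 : i k.1 = k.2
        · exact triv (L.l_z' _ _ _ _ _ h (Or.inr h2))
        · rw [L.l_z _ _ _ _ _ h h1 h2]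
          exact mul_mem (mul_mem (z_mem _ _) (V_le_Q (v_mem _ _))) (z_mem _ _)
    · rw [L.th_z]; exact z_mem _ _
  | one => rw [mul_one, mul_inv_cancel]; exact one_mem _
  | mul x w _ _ ih1 ih2 =>
    have e : g * (x * w) * g⁻¹ = (g * x * g⁻¹) * (g * w * g⁻¹) := by group
    rw [e]; exact mul_mem ih1 ih2
  | inv x _ ih =>
    have e : g * x⁻¹ * g⁻¹ = (g * x * g⁻¹)⁻¹ := by group
    rw [e]; exact inv_mem ih

end basic

end LocA

end Cfsg.Agent.Omega.All.F4K

end

section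


/-!
# `P` is irreducible on `Q/V` and on `V/X`, all even `q` (helper866, copied from helper250's `D7F4Ex/Irr.lean`)
-/

set_option autoImplicit false
set_option linter.unusedSectionVars false
set_option linter.style.haveILetI false

namespace Cfsg.Agent.Omega.All.F4K.LocA

open Subgroup
open Cfsg.Agent.OddHalf.D7F4Ex (J Sp ng fl op thd wt ws ng_ng ng_ne op_op fl_fl fl_self fl_ne)
open Cfsg.Agent.OddHalf.D7F4Ex.Loc (gV Xs Vs Qs Ps zero_of_add self_of_add inv_of_add X_le_V V_le_Q Q_le_P v_mem z_mem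
  c_mem l_mem th_mem)

variable {F : Type*} [Field F] {G : Type*} [Group G] {x0 : F → G} {v : J → F → G} {z : Sp → F → G} {c : J → F → G}
  {l : J → J → F → G} {th : (Fin 3 → Fˣ) →* G}

section

variable (L : LocA x0 v z c l th)

include L

/-- `V` as a commutative group -/
@[reducible] def commV : CommGroup (Vs x0 v) :=
  { (inferInstance : Group (Vs x0 v)) with mul_comm := fun x y => Subtype.ext (L.VV (z := z) x.2 y.2) }

/-- the product of the `v j (ω j)` -/
def vv (ω : J → F) : Vs x0 v :=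
  letI := L.commV
  ∏ j, (⟨v j (ω j), v_mem j _⟩ : Vs x0 v)

theorem vv_add (ω ω' : J → F) : (L.vv (ω + ω') : G) = L.vv ω * L.vv ω' := by
  letI := L.commV
  have h : L.vv (ω + ω') = L.vv ω * L.vv ω' := by
    unfold vv
    rw [← Finset.prod_mul_distrib]
    refine Finset.prod_congr rfl fun j _ => Subtype.ext ?_
    show v j ((ω + ω') j) = v j (ω j) * v j (ω' j)
    rw [Pi.add_apply, L.v_add]
  rw [h]; rfl

theorem vv_single (j : J) (a : F) : (L.vv (Pi.single j a) : G) = v j a := by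
  letI := L.commV
  have h : L.vv (Pi.single j a) = (⟨v j a, v_mem j _⟩ : Vs x0 v) := by
    unfold vv
    rw [Finset.prod_eq_single j]
    · apply Subtype.ext
      show v j ((Pi.single j a : J → F) j) = v j a
      rw [Pi.single_eq_same]
    · intro k _ hk
      apply Subtype.ext
      show v k _ = 1
      rw [Pi.single_eq_of_ne hk, zero_of_add (L.v_add k)]
    · intro h; exact absurd (Finset.mem_univ j) h
  rw [h]

theorem vv_zero : (L.vv 0 : G) = 1 := zero_of_add' L.vv_add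
where
  zero_of_add' (h : ∀ ω ω' : J → F, (L.vv (ω + ω') : G) = L.vv ω * L.vv ω') : (L.vv 0 : G) = 1 := by
    have h1 := h 0 0
    rw [add_zero] at h1
    exact (mul_eq_left.1 h1.symm)

/-- Coordinates of an element of `V`. -/
structure CoV (g : G) (r : F) (ω : J → F) : Prop where
  eq : g = x0 r * L.vv ω
  act : ∀ k u, c k u * g * (c k u)⁻¹ = x0 (u * ω (ng k)) * v k (u ^ 2 * ω (ng k)) * g

theorem exists_coV {g : G} (hg : g ∈ Vs x0 v) : ∃ r ω, L.CoV g r ω := by
  induction hg using closure_induction with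
  | mem x hx =>
    rcases hx with ⟨a, rfl⟩ | ⟨j, a, rfl⟩
    · refine ⟨a, 0, ⟨by rw [L.vv_zero, mul_one], fun k u => ?_⟩⟩
      rw [Pi.zero_apply, mul_zero, mul_zero, zero_of_add L.x0_add, zero_of_add (L.v_add k), one_mul, one_mul,
        ← L.x0_c, mul_inv_cancel_right]
    · refine ⟨0, Pi.single j a, ⟨by rw [zero_of_add L.x0_add, one_mul, L.vv_single], fun k u => ?_⟩⟩
      by_cases h : j = ng k
      · subst h
        rw [L.c_v, Pi.single_eq_same]
      · rw [Pi.single_eq_of_ne (Ne.symm h), mul_zero, mul_zero, zero_of_add L.x0_add, zero_of_add (L.v_add k),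
          one_mul, one_mul, L.c_v' _ _ _ _ h, mul_inv_cancel_right]
  | one =>
    refine ⟨0, 0, ⟨by rw [L.vv_zero, mul_one, zero_of_add L.x0_add], fun k u => ?_⟩⟩
    rw [Pi.zero_apply, mul_zero, mul_zero, zero_of_add L.x0_add, zero_of_add (L.v_add k), one_mul, one_mul,
      mul_one, mul_inv_cancel]
  | mul x y hx hy ih1 ih2 =>
    obtain ⟨r, ω, h1⟩ := ih1
    obtain ⟨r', ω', h2⟩ := ih2
    refine ⟨r + r', ω + ω', ⟨?_, fun k u => ?_⟩⟩
    · have h3 := L.VV (z := z) (X_le_V (L.x0_mem r')) (L.vv ω).2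
      calc x * y = x0 r * L.vv ω * (x0 r' * L.vv ω') := by rw [← h1.eq, ← h2.eq]
        _ = x0 r * (L.vv ω * x0 r') * L.vv ω' := by group
        _ = x0 (r + r') * L.vv (ω + ω') := by rw [← h3, L.x0_add, L.vv_add]; group
    · have h4 : x0 (u * ω' (ng k)) * v k (u ^ 2 * ω' (ng k)) ∈ Vs x0 v :=
        mul_mem (X_le_V (L.x0_mem _)) (v_mem _ _)
      have h5 := L.VV (z := z) (mul_mem (mul_mem (X_le_V (L.x0_mem (u * ω (ng k)))) (v_mem k (u ^ 2 * ω (ng k)))) hx) h4
      have h6 := L.x0_v (u * ω' (ng k)) k (u ^ 2 * ω (ng k))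
      calc c k u * (x * y) * (c k u)⁻¹ = (c k u * x * (c k u)⁻¹) * (c k u * y * (c k u)⁻¹) := by group
        _ = x0 (u * ω (ng k)) * v k (u ^ 2 * ω (ng k)) * x * (x0 (u * ω' (ng k)) * v k (u ^ 2 * ω' (ng k))) * y := by
          rw [h1.act, h2.act]; group
        _ = x0 (u * ω' (ng k)) * v k (u ^ 2 * ω' (ng k)) * (x0 (u * ω (ng k)) * v k (u ^ 2 * ω (ng k)) * x) * y := by
          rw [h5]
        _ = x0 (u * ω' (ng k)) * (v k (u ^ 2 * ω' (ng k)) * x0 (u * ω (ng k))) * v k (u ^ 2 * ω (ng k)) * x * y := by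
          group
        _ = _ := by
          rw [← L.x0_v, Pi.add_apply, mul_add, mul_add, L.x0_add, L.v_add,
            show x0 (u * ω (ng k)) * x0 (u * ω' (ng k)) = x0 (u * ω' (ng k)) * x0 (u * ω (ng k)) by
              rw [← L.x0_add, ← L.x0_add, add_comm],
            show v k (u ^ 2 * ω (ng k)) * v k (u ^ 2 * ω' (ng k)) = v k (u ^ 2 * ω' (ng k)) * v k (u ^ 2 * ω (ng k)) by
              rw [← L.v_add, ← L.v_add, add_comm]]
          group
  | inv x hx ih =>
    obtain ⟨r, ω, h1⟩ := ih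
    have h2 : x⁻¹ = x := inv_eq_of_mul_eq_one_left (L.V2 (z := z) hx)
    rw [h2]
    exact ⟨r, ω, h1⟩

theorem v_inj {j : J} {a : F} (h : v j a = 1) : a = 0 := L.xv 0 j a (by rw [h, zero_of_add L.x0_add])

theorem CoV.unique {g : G} {r r' : F} {ω ω' : J → F} (h : L.CoV g r ω) (h' : L.CoV g r' ω') : ω = ω' := by
  funext j
  obtain ⟨k, rfl⟩ : ∃ k, j = ng k := ⟨ng j, (ng_ng j).symm⟩
  have h1 := mul_right_cancel ((h.act k 1).symm.trans (h'.act k 1))
  rw [one_mul, one_mul, one_pow, one_mul, one_mul] at h1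
  have h2 : x0 (ω (ng k) + ω' (ng k)) = v k (ω (ng k) + ω' (ng k)) := by
    have h3 : x0 (ω' (ng k)) * x0 (ω (ng k)) = v k (ω' (ng k)) * (v k (ω (ng k)))⁻¹ := by
      calc x0 (ω' (ng k)) * x0 (ω (ng k)) = (x0 (ω' (ng k)))⁻¹ * (x0 (ω (ng k)) * v k (ω (ng k))) *
            (v k (ω (ng k)))⁻¹ := by rw [inv_of_add L.two L.x0_add]; group
        _ = _ := by rw [h1]; group
    rw [add_comm (ω (ng k)), L.x0_add, h3, inv_of_add L.two (L.v_add k), L.v_add]
  have h4 := L.xv _ _ _ h2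
  have h5 := L.two (ω' (ng k))
  calc ω (ng k) = (ω (ng k) + ω' (ng k)) + ω' (ng k) := by rw [add_assoc, h5, add_zero]
    _ = ω' (ng k) := by rw [h4, zero_add]

/-- the torus in coordinates -/
theorem CoV.torus {g : G} {r : F} {ω : J → F} (h : L.CoV g r ω) (ν : Fin 3 → Fˣ) :
    L.CoV (th ν * g * (th ν)⁻¹) r (fun j => (wt ν j : F) * ω j) := by
  obtain ⟨r', ω', h'⟩ := L.exists_coV (g := th ν * g * (th ν)⁻¹)
    (L.PV (th_mem ν) (by rw [h.eq]; exact mul_mem (X_le_V (L.x0_mem r)) (L.vv ω).2))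
  have hact : ∀ k u, c k u * (th ν * g * (th ν)⁻¹) * (c k u)⁻¹ =
      x0 (u * ((wt ν (ng k) : F) * ω (ng k))) * v k (u ^ 2 * ((wt ν (ng k) : F) * ω (ng k))) *
        (th ν * g * (th ν)⁻¹) := by
    intro k u
    have e0 : wt ν (ng k) = (wt ν k)⁻¹ := by
      rcases k with ⟨k, b⟩
      cases b <;> simp [wt, ng]
    have hw : ((wt ν k : Fˣ) : F) ≠ 0 := (wt ν k).ne_zero
    have e1 : c k u = th ν * c k (((wt ν k)⁻¹ : Fˣ) * u) * (th ν)⁻¹ := by
      rw [L.th_c, ← mul_assoc, Units.mul_inv, one_mul]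
    calc c k u * (th ν * g * (th ν)⁻¹) * (c k u)⁻¹
        = th ν * (c k (((wt ν k)⁻¹ : Fˣ) * u) * g * (c k (((wt ν k)⁻¹ : Fˣ) * u))⁻¹) * (th ν)⁻¹ := by
          rw [e1]; group
      _ = (th ν * x0 ((((wt ν k)⁻¹ : Fˣ) * u) * ω (ng k)) * (th ν)⁻¹) *
          (th ν * v k ((((wt ν k)⁻¹ : Fˣ) * u) ^ 2 * ω (ng k)) * (th ν)⁻¹) * (th ν * g * (th ν)⁻¹) := by
          rw [h.act]; group
      _ = _ := by
        rw [L.th_x0, mul_inv_cancel_right, L.th_v, e0]
        congr 3
        · ring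
        · rw [Units.val_inv_eq_inv_val]; field_simp
  -- uniqueness of the coordinates from the action
  have huniq : ω' = fun j => (wt ν j : F) * ω j := by
    funext j
    obtain ⟨k, rfl⟩ : ∃ k, j = ng k := ⟨ng j, (ng_ng j).symm⟩
    have h1 := mul_right_cancel ((h'.act k 1).symm.trans (hact k 1))
    rw [one_mul, one_mul, one_pow, one_mul, one_mul] at h1
    set α := ω' (ng k)
    set β := (wt ν (ng k) : F) * ω (ng k)
    have h2 : x0 (α + β) = v k (α + β) := by
      have h3 : x0 β * x0 α = v k β * (v k α)⁻¹ := by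
        calc x0 β * x0 α = (x0 β)⁻¹ * (x0 α * v k α) * (v k α)⁻¹ := by
              rw [inv_of_add L.two L.x0_add]; group
          _ = _ := by rw [h1]; group
      rw [add_comm α, L.x0_add, h3, inv_of_add L.two (L.v_add k), L.v_add]
    have h4 := L.xv _ _ _ h2
    have h5 := L.two β
    calc α = (α + β) + β := by rw [add_assoc, h5, add_zero]
      _ = β := by rw [h4, zero_add]
  have hvv : (th ν * L.vv ω * (th ν)⁻¹ : G) = L.vv (fun j => (wt ν j : F) * ω j) := by
    letI := L.commV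
    let cg : Vs x0 v →* Vs x0 v :=
      { toFun := fun y => ⟨th ν * y * (th ν)⁻¹, L.PV (th_mem ν) y.2⟩
        map_one' := Subtype.ext (by show th ν * 1 * (th ν)⁻¹ = 1; group)
        map_mul' := fun x y => Subtype.ext (by
          show th ν * (x * y) * (th ν)⁻¹ = th ν * x * (th ν)⁻¹ * (th ν * y * (th ν)⁻¹)
          group) }
    have h1 : cg (L.vv ω) = L.vv (fun j => (wt ν j : F) * ω j) := by
      unfold vv
      rw [map_prod]
      exact Finset.prod_congr rfl fun j _ => Subtype.ext (L.th_v ν j _)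
    exact congrArg Subtype.val h1
  refine ⟨?_, hact⟩
  rw [h.eq]
  calc th ν * (x0 r * L.vv ω) * (th ν)⁻¹ = th ν * x0 r * (th ν)⁻¹ * (th ν * L.vv ω * (th ν)⁻¹) := by group
    _ = _ := by rw [L.th_x0, mul_inv_cancel_right, hvv]

theorem CoV.mem_X {g : G} {r : F} (h : L.CoV g r 0) : g = x0 r := by
  rw [h.eq, L.vv_zero, mul_one]

theorem add_eq_zero {a b : F} (h : a + b = 0) : a = b := by
  have h1 := L.two b
  calc a = (a + b) + b := by rw [add_assoc, h1, add_zero]
    _ = b := by rw [h, zero_add]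

/-- every element is a square -/
theorem exists_sqrt [Finite F] (a : F) : ∃ b : F, b ^ 2 = a := by
  have hinj : Function.Injective (fun b : F => b ^ 2) := by
    intro b b' h
    have h1 : (b + b') * (b + b') = 0 := by
      have h2 : b ^ 2 = b' ^ 2 := h
      calc (b + b') * (b + b') = b ^ 2 + b' ^ 2 + (b * b' + b * b') := by ring
        _ = 0 := by rw [L.two, h2, L.two, add_zero]
    exact L.add_eq_zero (mul_self_eq_zero.1 h1)
  exact (Finite.injective_iff_surjective.1 hinj) a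

theorem exists_sqrt_unit [Finite F] (a : Fˣ) : ∃ b : Fˣ, b ^ 2 = a := by
  obtain ⟨b, hb⟩ := L.exists_sqrt (a : F)
  have h0 : b ≠ 0 := by
    rintro rfl
    apply a.ne_zero
    rw [← hb]; ring
  exact ⟨Units.mk0 b h0, Units.ext (by rw [Units.val_pow_eq_pow_val, Units.val_mk0, hb])⟩

/-- the torus moves `a` to `b` on the root group `j` -/
theorem exists_wt [Finite F] (j : J) (a : Fˣ) : ∃ ν : Fin 3 → Fˣ, wt ν j = a := by
  obtain ⟨b, hb⟩ := L.exists_sqrt_unit a
  rcases j with ⟨k, s⟩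
  cases s
  · exact ⟨fun _ => b⁻¹, by simp [wt, hb]⟩
  · exact ⟨fun _ => b, by simp [wt, hb]⟩

/-- `P` is irreducible on `V / X`. -/
theorem irrV [Finite F] {R : Subgroup G} (h1 : Xs x0 ≤ R) (h2 : R ≤ Vs x0 v)
    (h3 : ∀ p ∈ Ps x0 v z c l th, ∀ r ∈ R, p * r * p⁻¹ ∈ R) : R = Xs x0 ∨ R = Vs x0 v := by
  by_cases hR : R ≤ Xs x0
  · exact Or.inl (le_antisymm hR h1)
  right
  apply le_antisymm h2
  obtain ⟨g, hg, hgX⟩ := SetLike.not_le_iff_exists.1 hR
  obtain ⟨r, ω, hω⟩ := L.exists_coV (h2 hg)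
  have h4 : ω ≠ 0 := by
    rintro rfl
    exact hgX (L.mem_X.2 ⟨r, hω.mem_X⟩)
  obtain ⟨j, hj⟩ := Function.ne_iff.1 h4
  -- some `v k w ∈ R`
  have h5 : v (ng j) (ω j) ∈ R := by
    have h6 := h3 _ (c_mem (ng j) 1) g hg
    rw [hω.act, one_mul, one_pow, one_mul, ng_ng] at h6
    have h7 := mul_mem (mul_mem (inv_mem (h1 (L.x0_mem (ω j)))) h6) (inv_mem hg)
    have e : (x0 (ω j))⁻¹ * (x0 (ω j) * v (ng j) (ω j) * g) * g⁻¹ = v (ng j) (ω j) := by group
    rwa [e] at h7
  have hall : ∀ k w, w ≠ 0 → v k w ∈ R → ∀ u, v k u ∈ R := by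
    intro k w hw hk u
    by_cases hu : u = 0
    · rw [hu, zero_of_add (L.v_add k)]; exact one_mem _
    obtain ⟨ν, hν⟩ := L.exists_wt k (Units.mk0 u hu * (Units.mk0 w hw)⁻¹)
    have h6 := h3 _ (th_mem ν) _ hk
    rw [L.th_v, hν, Units.val_mul, Units.val_mk0, Units.val_inv_eq_inv_val, Units.val_mk0, mul_assoc,
      inv_mul_cancel₀ hw, mul_one] at h6
    exact h6
  have hng : ∀ k, (∀ u, v k u ∈ R) → ∀ u, v (ng k) u ∈ R := by
    intro k hk
    apply hall _ 1 one_ne_zero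
    have h6 := h3 _ (c_mem (ng k) 1) _ (hk 1)
    have h7 := L.c_v (ng k) 1 1
    rw [ng_ng, one_mul, one_pow, one_mul] at h7
    rw [h7] at h6
    have h8 := mul_mem (mul_mem (inv_mem (h1 (L.x0_mem 1))) h6) (inv_mem (hk 1))
    have e : (x0 1)⁻¹ * (x0 1 * v (ng k) 1 * v k 1) * (v k 1)⁻¹ = v (ng k) 1 := by group
    rwa [e] at h8
  have hst : ∀ k m, k.1 ≠ m.1 → (∀ u, v k u ∈ R) → ∀ u, v m u ∈ R := by
    intro k m hkm hk u
    have h6 := h3 _ (l_mem (j := ng k) (k := m) hkm u) _ (hk 1)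
    have h7 := L.l_v (ng k) m u 1 hkm
    rw [ng_ng] at h7
    rw [h7, mul_one] at h6
    have h8 := mul_mem h6 (inv_mem (hk 1))
    rwa [mul_inv_cancel_right] at h8
  have h8 : ∀ m u, v m u ∈ R := by
    have h9 := hall _ _ hj h5
    have h10 : ∀ m, m.1 ≠ (ng j).1 → ∀ u, v m u ∈ R := fun m hm => hst _ m (Ne.symm hm) h9
    intro m
    by_cases hm : m.1 = (ng j).1
    · -- through a third index
      obtain ⟨m', hm'⟩ : ∃ m' : J, m'.1 ≠ (ng j).1 := by
        obtain ⟨i, hi⟩ : ∃ i : Fin 3, i ≠ (ng j).1 := exists_ne _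
        exact ⟨(i, true), hi⟩
      exact hst m' m (by rw [hm]; exact hm') (h10 m' hm')
    · exact h10 m hm
  rw [Vs, closure_le]
  rintro g (⟨a, rfl⟩ | ⟨j, a, rfl⟩)
  · exact h1 (L.x0_mem a)
  · exact h8 j a

/-! ### `Q / V` -/

/-- the elements of `Q` with coordinates `a` modulo `V` -/
def CoQ (x0 : F → G) (z : Sp → F → G) (q : G) (a : Sp → F) : Prop :=
  ∀ i b, q * z i b * q⁻¹ = x0 (a (op i) * b) * z i b

theorem CoQ.mul {q q' : G} {a a' : Sp → F} (hq : q ∈ Qs x0 v z) (h : CoQ x0 z q a) (h' : CoQ x0 z q' a') :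
    CoQ x0 z (q * q') (a + a') := by
  intro i b
  have h1 := L.XP (c := c) (l := l) (th := th) (L.x0_mem (a' (op i) * b)) (Q_le_P hq)
  calc q * q' * z i b * (q * q')⁻¹ = q * (q' * z i b * q'⁻¹) * q⁻¹ := by group
    _ = (q * x0 (a' (op i) * b)) * z i b * q⁻¹ := by rw [h' i b]; group
    _ = x0 (a' (op i) * b) * (q * z i b * q⁻¹) := by rw [← h1]; group
    _ = x0 ((a + a') (op i) * b) * z i b := by
      rw [h i b, ← mul_assoc, ← L.x0_add, Pi.add_apply, add_mul, add_comm]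

theorem coQ_single (i : Sp) (a : F) : CoQ x0 z (z i a) (Pi.single i a) := by
  intro j b
  rw [L.z_conj]
  by_cases h : j = op i
  · rw [if_pos h, h, op_op, Pi.single_eq_same]
  · rw [if_neg h, Pi.single_eq_of_ne, zero_mul]
    intro h2; apply h; rw [← h2, op_op]

theorem coQ_V {y : G} (hy : y ∈ Vs x0 v) : CoQ x0 z y 0 := by
  intro i b
  rw [Pi.zero_apply, zero_mul, zero_of_add L.x0_add, one_mul, L.VQ hy (z_mem i b), mul_inv_cancel_right]

theorem CoQ.unique {q : G} {a a' : Sp → F} (h : CoQ x0 z q a) (h' : CoQ x0 z q a') : a = a' :=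
  L.beta_unique h h'

/-- every vector is realised -/
theorem exists_coQ (a : Sp → F) : ∃ q ∈ Qs x0 v z, CoQ x0 z q a := by
  classical
  have h1 : ∀ s : Finset Sp, ∃ q ∈ Qs x0 v z, CoQ x0 z q (∑ i ∈ s, Pi.single i (a i)) := by
    intro s
    induction s using Finset.induction_on with
    | empty => exact ⟨1, one_mem _, by rw [Finset.sum_empty]; exact L.coQ_V (one_mem _)⟩
    | insert i s hi ih =>
      obtain ⟨q, hq, hqa⟩ := ih
      exact ⟨z i (a i) * q, mul_mem (z_mem _ _) hq, by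
        rw [Finset.sum_insert hi]; exact CoQ.mul L (z_mem _ _) (L.coQ_single i (a i)) hqa⟩
  obtain ⟨q, hq, hqa⟩ := h1 Finset.univ
  rw [Finset.univ_sum_single] at hqa
  exact ⟨q, hq, hqa⟩

/-- `C_Q(Q) = V` : an element with coordinates `0` lies in `V` -/
theorem mem_V_of_coQ {q : G} (hq : q ∈ Qs x0 v z) (h : CoQ x0 z q 0) : q ∈ Vs x0 v := by
  classical
  haveI : ((Vs x0 v).subgroupOf (Qs x0 v z)).Normal := ⟨by
    rintro ⟨y, hy⟩ hyV ⟨g, hg⟩
    rw [mem_subgroupOf] at hyV ⊢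
    exact L.PV (z := z) (c := c) (l := l) (th := th) (Q_le_P hg) hyV⟩
  let B := Qs x0 v z ⧸ (Vs x0 v).subgroupOf (Qs x0 v z)
  letI : CommGroup B := { (inferInstance : Group B) with
    mul_comm := by
      intro x y
      induction x using QuotientGroup.induction_on with
      | H x =>
      induction y using QuotientGroup.induction_on with
      | H y =>
      rw [← QuotientGroup.mk_mul, ← QuotientGroup.mk_mul, eq_comm, QuotientGroup.eq, mem_subgroupOf]
      have h1 := X_le_V (v := v) (L.QQ (inv_mem x.2) (inv_mem y.2))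
      have e : (((y * x)⁻¹ * (x * y) : Qs x0 v z) : G) =
          (x : G)⁻¹ * (y : G)⁻¹ * (x : G)⁻¹⁻¹ * (y : G)⁻¹⁻¹ := by
        show ((y : G) * x)⁻¹ * (x * y) = _
        group
      rw [e]; exact h1 }
  let zb : Sp → F → B := fun i a => ((⟨z i a, z_mem i a⟩ : Qs x0 v z) : B)
  have hzb : ∀ i a b, zb i (a + b) = zb i a * zb i b := by
    intro i a b
    show ((⟨z i (a + b), _⟩ : Qs x0 v z) : B) = ((⟨z i a, _⟩ : Qs x0 v z) : B) * ((⟨z i b, _⟩ : Qs x0 v z) : B)
    rw [← QuotientGroup.mk_mul]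
    congr 1
    exact Subtype.ext (L.z_add i a b)
  have hzb0 : ∀ i, zb i 0 = 1 := fun i => zero_of_add (hzb i)
  have key : ∀ q (hq : q ∈ Qs x0 v z), ∃ a : Sp → F, CoQ x0 z q a ∧
      ((⟨q, hq⟩ : Qs x0 v z) : B) = ∏ i, zb i (a i) := by
    intro q hq
    induction hq using closure_induction with
    | mem x hx =>
      rcases hx with hx | ⟨i, a, rfl⟩
      · have hx' : x ∈ Vs x0 v := subset_closure hx
        refine ⟨0, L.coQ_V hx', ?_⟩
        have h1 : ∏ i, zb i ((0 : Sp → F) i) = 1 := Finset.prod_eq_one fun i _ => hzb0 i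
        rw [h1]
        exact (QuotientGroup.eq_one_iff _).2 hx'
      · refine ⟨Pi.single i a, L.coQ_single i a, ?_⟩
        rw [Finset.prod_eq_single i]
        · rw [Pi.single_eq_same]
        · intro k _ hk
          rw [Pi.single_eq_of_ne hk, hzb0]
        · intro h; exact absurd (Finset.mem_univ i) h
    | one =>
      refine ⟨0, L.coQ_V (one_mem _), ?_⟩
      have h1 : ∏ i, zb i ((0 : Sp → F) i) = 1 := Finset.prod_eq_one fun i _ => hzb0 i
      rw [h1]; rfl
    | mul x y hx hy ih1 ih2 =>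
      obtain ⟨a, ha, ha2⟩ := ih1
      obtain ⟨a', ha', ha2'⟩ := ih2
      refine ⟨a + a', CoQ.mul L hx ha ha', ?_⟩
      have h1 : ((⟨x * y, mul_mem hx hy⟩ : Qs x0 v z) : B) =
          ((⟨x, hx⟩ : Qs x0 v z) : B) * ((⟨y, hy⟩ : Qs x0 v z) : B) := rfl
      rw [h1, ha2, ha2', ← Finset.prod_mul_distrib]
      exact Finset.prod_congr rfl fun i _ => (hzb i _ _).symm
    | inv x hx ih =>
      obtain ⟨a, ha, ha2⟩ := ih
      have h1 : x⁻¹ = x * (x * x)⁻¹ := by group
      have h2 := L.Q2 hx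
      have h3 := CoQ.mul L hx ha (L.coQ_V (inv_mem h2))
      rw [add_zero, ← h1] at h3
      refine ⟨a, h3, ?_⟩
      rw [← ha2, QuotientGroup.eq, mem_subgroupOf]
      show x⁻¹⁻¹ * x ∈ Vs x0 v
      rw [inv_inv]; exact h2
  obtain ⟨a, ha, ha2⟩ := key q hq
  have h0 : a = 0 := CoQ.unique L ha h
  rw [h0] at ha2
  have h1 : ∏ i, zb i ((0 : Sp → F) i) = 1 := Finset.prod_eq_one fun i _ => hzb0 i
  rw [h1] at ha2
  have h2 := (QuotientGroup.eq_one_iff (⟨q, hq⟩ : Qs x0 v z)).1 ha2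
  exact h2

theorem ZQ {q : G} (hq : q ∈ Qs x0 v z) (h : ∀ y ∈ Qs x0 v z, q * y = y * q) : q ∈ Vs x0 v := by
  refine L.mem_V_of_coQ (c := c) (l := l) (th := th) hq fun i b => ?_
  rw [Pi.zero_apply, zero_mul, zero_of_add L.x0_add, one_mul, h _ (z_mem i b), mul_inv_cancel_right]

theorem coQ_of_mem {q : G} (hq : q ∈ Qs x0 v z) : ∃ a, CoQ x0 z q a := L.exists_beta hq

/-- conjugation in coordinates -/
theorem CoQ.conj_c {q : G} {a : Sp → F} (h : CoQ x0 z q a) (k : J) (u : F) :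
    CoQ x0 z (c k u * q * (c k u)⁻¹) (fun i => if i k.1 = k.2 then a i + u * a (fl i k.1) else a i) := by
  intro i b
  have hinv := inv_of_add L.two (L.c_add k) u
  have hX : ∀ r, c k u * x0 r * (c k u)⁻¹ = x0 r := fun r => by rw [← L.x0_c, mul_inv_cancel_right]
  by_cases h1 : i k.1 = k.2
  · -- `c` commutes with `z i b`
    have h2 := L.c_z' k u i b h1
    have h3 : (c k u)⁻¹ * z i b * c k u = z i b := by rw [mul_assoc, ← h2, inv_mul_cancel_left]
    have h4 : ¬ (op i) k.1 = k.2 := by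
      rw [← h1]; simp [op]
    beta_reduce
    rw [if_neg h4]
    calc c k u * q * (c k u)⁻¹ * z i b * (c k u * q * (c k u)⁻¹)⁻¹
        = c k u * (q * ((c k u)⁻¹ * z i b * c k u) * q⁻¹) * (c k u)⁻¹ := by group
      _ = (c k u * x0 (a (op i) * b) * (c k u)⁻¹) * (c k u * z i b * (c k u)⁻¹) := by rw [h3, h i b]; group
      _ = _ := by rw [hX, h2, mul_inv_cancel_right]
  · have h2 := L.c_z k u i b h1
    have h3 : (c k u)⁻¹ * z i b * c k u = z (fl i k.1) (u * b) * z i b := by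
      rw [hinv] at h2 ⊢; exact h2
    have h4 : (op i) k.1 = k.2 := by
      rcases k with ⟨k, s⟩
      cases s <;> simp_all [op]
    beta_reduce
    rw [if_pos h4]
    have h5 : op (fl i k.1) = fl (op i) k.1 := by
      funext m; by_cases hm : m = k.1 <;> simp [op, fl, hm]
    calc c k u * q * (c k u)⁻¹ * z i b * (c k u * q * (c k u)⁻¹)⁻¹
        = c k u * (q * ((c k u)⁻¹ * z i b * c k u) * q⁻¹) * (c k u)⁻¹ := by group
      _ = c k u * ((q * z (fl i k.1) (u * b) * q⁻¹) * (q * z i b * q⁻¹)) * (c k u)⁻¹ := by rw [h3]; group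
      _ = c k u * (x0 (a (fl (op i) k.1) * (u * b)) * z (fl i k.1) (u * b) * (x0 (a (op i) * b) * z i b)) *
          (c k u)⁻¹ := by rw [h (fl i k.1), h i b, h5]
      _ = c k u * (x0 (a (fl (op i) k.1) * (u * b)) * (z (fl i k.1) (u * b) * x0 (a (op i) * b)) * z i b) *
          (c k u)⁻¹ := by group
      _ = c k u * (x0 (a (fl (op i) k.1) * (u * b)) * (x0 (a (op i) * b) * z (fl i k.1) (u * b)) * z i b) *
          (c k u)⁻¹ := by rw [← L.x0_z]
      _ = (c k u * (x0 (a (fl (op i) k.1) * (u * b)) * x0 (a (op i) * b)) * (c k u)⁻¹) *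
          ((c k u * z (fl i k.1) (u * b) * (c k u)⁻¹) * (c k u * z i b * (c k u)⁻¹)) := by group
      _ = x0 ((a (op i) + u * a (fl (op i) k.1)) * b) * z i b := by
        have h6 : (fl i k.1) k.1 = k.2 := by
          rw [fl_self]
          rcases k with ⟨k, s⟩
          cases s <;> simp_all
        rw [← L.x0_add, hX, L.c_z' k u (fl i k.1) (u * b) h6, mul_inv_cancel_right, h2, ← mul_assoc (z _ _),
          self_of_add L.two (L.z_add _), one_mul]
        congr 2; ring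

end

/-- induction over the spin weights -/
theorem sp_ind {A : Sp → Prop} (h0 : A (fun _ => true)) (h : ∀ i k, A i → A (fl i k)) (i : Sp) : A i := by
  have step : ∀ (i : Sp) (k : Fin 3) (b : Bool), A i → A (fun m => if m = k then b else i m) := by
    intro i k b hi
    by_cases hb : b = i k
    · have : (fun m => if m = k then b else i m) = i := by
        funext m; by_cases hm : m = k
        · rw [if_pos hm, hb, hm]
        · rw [if_neg hm]
      rwa [this]
    · have : (fun m => if m = k then b else i m) = fl i k := by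
        funext m; by_cases hm : m = k
        · rw [if_pos hm, hm, fl_self]
          revert hb; cases b <;> cases (i k) <;> simp
        · rw [if_neg hm, fl_ne _ hm]
      rw [this]; exact h i k hi
  have h1 := step _ 2 (i 2) (step _ 1 (i 1) (step _ 0 (i 0) h0))
  have : (fun m : Fin 3 => if m = 2 then i 2 else if m = 1 then i 1 else if m = 0 then i 0 else true) = i := by
    funext m; fin_cases m <;> simp
  rwa [this] at h1

section

variable (L : LocA x0 v z c l th)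

include L

theorem coQ_inv {q : G} {a : Sp → F} (hq : q ∈ Qs x0 v z) (h : CoQ x0 z q a) : CoQ x0 z q⁻¹ a := by
  have h1 : q⁻¹ = q * (q * q)⁻¹ := by group
  have h3 := CoQ.mul L hq h (L.coQ_V (inv_mem (L.Q2 hq)))
  rwa [add_zero, ← h1] at h3

theorem exists_ws (i : Sp) (a : Fˣ) : ∃ ν : Fin 3 → Fˣ, ws ν i = a := by
  refine ⟨fun k => if k = 0 then (if i 0 then a else a⁻¹) else 1, ?_⟩
  unfold ws
  rw [Fin.prod_univ_three]
  cases h0 : i 0 <;> cases h1 : i 1 <;> cases h2 : i 2 <;> simp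

/-- `P` is irreducible on `Q / V`. -/
theorem irrQ {R : Subgroup G} (h1 : Vs x0 v ≤ R) (h2 : R ≤ Qs x0 v z)
    (h3 : ∀ p ∈ Ps x0 v z c l th, ∀ r ∈ R, p * r * p⁻¹ ∈ R) : R = Vs x0 v ∨ R = Qs x0 v z := by
  by_cases hR : R ≤ Vs x0 v
  · exact Or.inl (le_antisymm hR h1)
  right
  apply le_antisymm h2
  obtain ⟨g, hg, hgV⟩ := SetLike.not_le_iff_exists.1 hR
  have claim : ∀ n : ℕ, n ≤ 3 → ∃ q ∈ R, ∃ a, CoQ x0 z q a ∧ a ≠ 0 ∧
      ∀ i, a i ≠ 0 → ∀ k : Fin 3, k.val < n → i k = true := by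
    intro n
    induction n with
    | zero =>
      intro _
      obtain ⟨a, ha⟩ := L.coQ_of_mem (h2 hg)
      refine ⟨g, hg, a, ha, ?_, fun i _ k hk => absurd hk (Nat.not_lt_zero _)⟩
      rintro rfl
      exact hgV (L.mem_V_of_coQ (h2 hg) ha)
    | succ n ih =>
      intro hn
      obtain ⟨q, hq, a, ha, ha0, hsup⟩ := ih (by omega)
      let k : Fin 3 := ⟨n, by omega⟩
      have h4 := CoQ.conj_c L ha (k, true) 1
      have h5 := CoQ.mul L (L.PQ (c_mem (k, true) 1) (h2 hq)) h4 (L.coQ_inv (h2 hq) ha)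
      set a' : Sp → F := (fun i => if i (k, true).1 = (k, true).2 then a i + 1 * a (fl i (k, true).1) else a i) + a
        with ha'
      have h6 : ∀ i, a' i = if i k = true then a (fl i k) else 0 := by
        intro i
        rw [ha', Pi.add_apply]
        show (if i k = true then a i + 1 * a (fl i k) else a i) + a i = _
        by_cases h : i k = true
        · rw [if_pos h, if_pos h, one_mul, add_comm (a i), add_assoc, L.two, add_zero]
        · rw [if_neg h, if_neg h, L.two]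
      by_cases h7 : a' = 0
      · refine ⟨q, hq, a, ha, ha0, fun i hi m hm => ?_⟩
        rcases Nat.lt_succ_iff_lt_or_eq.1 hm with h8 | h8
        · exact hsup i hi m h8
        · have hmk : m = k := Fin.ext h8
          rw [hmk]
          by_contra h9
          apply hi
          have h10 := congrFun h7 (fl i k)
          rw [h6, fl_self, fl_fl, if_pos (by simpa using h9), Pi.zero_apply] at h10
          exact h10
      · refine ⟨_, mul_mem (h3 _ (c_mem (k, true) 1) q hq) (inv_mem hq), a', h5, h7, fun i hi m hm => ?_⟩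
        rw [h6] at hi
        have h8 : i k = true := by
          by_contra h
          exact hi (if_neg h)
        rw [if_pos h8] at hi
        rcases Nat.lt_succ_iff_lt_or_eq.1 hm with h9 | h9
        · have h10 := hsup _ hi m h9
          rwa [fl_ne] at h10
          intro h; rw [h] at h9; exact absurd h9 (lt_irrefl _)
        · have hmk : m = k := Fin.ext h9
          rw [hmk]; exact h8
  obtain ⟨q, hq, a, ha, ha0, hsup⟩ := claim 3 le_rfl
  set top : Sp := fun _ => true with htop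
  have h4 : ∀ i, i ≠ top → a i = 0 := by
    intro i hi
    by_contra h
    exact hi (funext fun k => hsup i h k k.2)
  have h5 : a = Pi.single top (a top) := by
    funext i
    by_cases h : i = top
    · rw [h, Pi.single_eq_same]
    · rw [Pi.single_eq_of_ne h, h4 i h]
  have h6 : a top ≠ 0 := by
    intro h
    apply ha0
    rw [h5, h, Pi.single_zero]
  have h7 : z top (a top) ∈ R := by
    have h8 := CoQ.mul L (h2 hq) ha (L.coQ_single top (a top))
    rw [← h5] at h8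
    have h9 : a + a = 0 := funext fun i => L.two (a i)
    rw [h9] at h8
    have h10 := L.mem_V_of_coQ (mul_mem (h2 hq) (z_mem _ _)) h8
    have h11 := mul_mem (inv_mem hq) (h1 h10)
    rwa [inv_mul_cancel_left] at h11
  have hz : ∀ i w, w ≠ 0 → z i w ∈ R → ∀ u, z i u ∈ R := by
    intro i w hw hi u
    by_cases hu : u = 0
    · rw [hu, zero_of_add (L.z_add i)]; exact one_mem _
    obtain ⟨ν, hν⟩ := L.exists_ws i (Units.mk0 u hu * (Units.mk0 w hw)⁻¹)
    have h8 := h3 _ (th_mem ν) _ hi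
    rw [L.th_z, hν, Units.val_mul, Units.val_mk0, Units.val_inv_eq_inv_val, Units.val_mk0, mul_assoc,
      inv_mul_cancel₀ hw, mul_one] at h8
    exact h8
  have hall : ∀ i, ∀ u, z i u ∈ R := by
    intro i
    refine sp_ind (A := fun i => ∀ u, z i u ∈ R) (hz top _ h6 h7) (fun i k hi u => ?_) i
    have h8 := h3 _ (c_mem (k, !i k) u) _ (hi 1)
    rw [L.c_z _ _ _ _ (by simp), mul_one] at h8
    have h9 := mul_mem h8 (inv_mem (hi 1))
    rwa [mul_inv_cancel_right] at h9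
  rw [Qs, closure_le]
  rintro g (hg | ⟨i, a, rfl⟩)
  · exact h1 (subset_closure hg)
  · exact hall i a

theorem X_le_comm : Xs x0 ≤ ⁅Qs x0 v z, Qs x0 v z⁆ := by
  intro x hx
  obtain ⟨a, rfl⟩ := L.mem_X.1 hx
  have h1 := commutator_mem_commutator (z_mem (x0 := x0) (v := v) (z := z) (fun _ => true) a)
    (z_mem (x0 := x0) (v := v) (z := z) (op fun _ => true) 1)
  rw [commutatorElement_def, L.z_op, mul_one, mul_inv_cancel_right] at h1
  exact h1

theorem neQ : ∃ q ∈ Qs x0 v z, q ∉ Vs x0 v := by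
  refine ⟨z (fun _ => true) 1, z_mem _ _, fun h => ?_⟩
  have h4 := CoQ.unique L (L.coQ_V h) (L.coQ_single _ _)
  have h5 := congrFun h4 (fun _ => true)
  rw [Pi.single_eq_same, Pi.zero_apply] at h5
  exact one_ne_zero h5.symm

theorem neV : ∃ y ∈ Vs x0 v, y ∉ Xs x0 := by
  refine ⟨v (0, true) 1, v_mem _ _, fun h => ?_⟩
  obtain ⟨a, ha⟩ := L.mem_X.1 h
  exact one_ne_zero (L.xv _ _ _ ha.symm)

/-- an additive function which is invariant under a scalar `≠ 1` vanishes -/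
theorem add_zero_of_inv {g : F → F} (hg : ∀ a b, g (a + b) = g a + g b) {μ : F} (hμ : μ ≠ 1)
    (h : ∀ a, g (μ * a) = g a) (a : F) : g a = 0 := by
  have h0 : μ + 1 ≠ 0 := fun h => hμ (L.add_eq_zero h)
  have h1 : g ((μ + 1) * (a * (μ + 1)⁻¹)) = 0 := by
    rw [add_mul, one_mul, hg, h, L.two]
  rwa [mul_comm, mul_assoc, inv_mul_cancel₀ h0, mul_one] at h1

end

end Cfsg.Agent.Omega.All.F4K.LocA

end

section


/-!
# `F₄(q)`: the fields `irr`, `comm`, `typ`, `mix` in local coordinates (helper866)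

* `LocA.conj_l`, `LocA.conj_c` : the action of the Levi factor on `V`;
* `LocA.transV` : `P` is transitive on `V/X`: every `g ∈ V ∖ X` is conjugate under `P` to `x₀(r) v_(0,+)(α)`, `α ≠ 0`;
* `LocA.mix` : `[g, Q] = X` for `g ∈ Q ∖ V`;
* `LocA.comm_eq` : `[Q, Q] = X`; `LocA.irr_eq` : the field `irr`.
-/

set_option autoImplicit false
set_option linter.unusedSectionVars false
set_option linter.style.haveILetI false

namespace Cfsg.Agent.Omega.All.F4K.LocA

open Subgroup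
open Cfsg.Agent.OddHalf.D7F4Ex (J Sp ng fl op thd wt ws ng_ng ng_ne op_op fl_fl fl_self fl_ne)
open Cfsg.Agent.OddHalf.D7F4Ex.Loc (gV Xs Vs Qs Ps zero_of_add self_of_add inv_of_add X_le_V V_le_Q Q_le_P v_mem z_mem
  c_mem l_mem th_mem)
open scoped commutatorElement

variable {F : Type*} [Field F] {G : Type*} [Group G] {x0 : F → G} {v : J → F → G} {z : Sp → F → G} {c : J → F → G}
  {l : J → J → F → G} {th : (Fin 3 → Fˣ) →* G} (L : LocA x0 v z c l th)

include L

/-- a property of `ω` which is additive holds if it holds for the `Pi.single j u` -/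
theorem ind_single {p : (J → F) → Prop} (h0 : p 0) (ha : ∀ ω ω', p ω → p ω' → p (ω + ω'))
    (hs : ∀ j u, p (Pi.single j u)) (ω : J → F) : p ω := by
  classical
  have h1 : ω = ∑ j, Pi.single j (ω j) := (Finset.univ_sum_single ω).symm
  rw [h1]
  exact Finset.sum_induction _ p ha h0 fun j _ => hs j _

theorem conj_l {a b : J} (hab : a.1 ≠ b.1) (s : F) (ω : J → F) :
    l a b s * (L.vv ω : G) * (l a b s)⁻¹ = L.vv (ω + Pi.single b (s * ω (ng a)) + Pi.single a (s * ω (ng b))) := by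
  have hbn : ng b ≠ ng a := fun h => hab (by
    have := congrArg Prod.fst h
    exact this.symm)
  refine L.ind_single (p := fun ω => l a b s * (L.vv ω : G) * (l a b s)⁻¹ =
    L.vv (ω + Pi.single b (s * ω (ng a)) + Pi.single a (s * ω (ng b)))) ?_ ?_ ?_ ω
  · rw [L.vv_zero, mul_one, mul_inv_cancel, Pi.zero_apply, Pi.zero_apply, mul_zero, Pi.single_zero, Pi.single_zero,
      add_zero, add_zero, L.vv_zero]
  · intro ω ω' h h'
    have e : ω + ω' + Pi.single b (s * (ω + ω') (ng a)) + Pi.single a (s * (ω + ω') (ng b)) =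
        (ω + Pi.single b (s * ω (ng a)) + Pi.single a (s * ω (ng b))) +
          (ω' + Pi.single b (s * ω' (ng a)) + Pi.single a (s * ω' (ng b))) := by
      rw [Pi.add_apply, Pi.add_apply, mul_add, mul_add, Pi.single_add, Pi.single_add]; abel
    rw [e, L.vv_add, L.vv_add, ← h, ← h']
    group
  · intro j u
    rw [L.vv_single]
    by_cases h1 : j = ng a
    · subst h1
      rw [Pi.single_eq_same, Pi.single_eq_of_ne hbn, mul_zero, Pi.single_zero, add_zero, L.vv_add, L.vv_single,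
        L.vv_single, L.l_v _ _ _ _ hab, ← L.v_v]
    by_cases h2 : j = ng b
    · subst h2
      rw [Pi.single_eq_same, Pi.single_eq_of_ne (Ne.symm hbn), mul_zero, Pi.single_zero, add_zero, L.vv_add, L.vv_single,
        L.vv_single, L.l_symm, L.l_v _ _ _ _ (Ne.symm hab), ← L.v_v]
    · rw [Pi.single_eq_of_ne (Ne.symm h1), Pi.single_eq_of_ne (Ne.symm h2), mul_zero, Pi.single_zero, Pi.single_zero,
        add_zero, add_zero, L.vv_single, L.l_v' _ _ _ _ _ hab h1 h2, mul_inv_cancel_right]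

theorem conj_c (k : J) (u : F) (ω : J → F) :
    c k u * (L.vv ω : G) * (c k u)⁻¹ = x0 (u * ω (ng k)) * L.vv (ω + Pi.single k (u ^ 2 * ω (ng k))) := by
  refine L.ind_single (p := fun ω => c k u * (L.vv ω : G) * (c k u)⁻¹ =
    x0 (u * ω (ng k)) * L.vv (ω + Pi.single k (u ^ 2 * ω (ng k)))) ?_ ?_ ?_ ω
  · rw [L.vv_zero, mul_one, mul_inv_cancel, Pi.zero_apply, mul_zero, mul_zero, Pi.single_zero, add_zero, L.vv_zero,
      zero_of_add L.x0_add, mul_one]
  · intro ω ω' h h'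
    have e : ω + ω' + Pi.single k (u ^ 2 * (ω + ω') (ng k)) =
        (ω + Pi.single k (u ^ 2 * ω (ng k))) + (ω' + Pi.single k (u ^ 2 * ω' (ng k))) := by
      rw [Pi.add_apply, mul_add, Pi.single_add]; abel
    have h3 := L.VV (z := z) (X_le_V (L.x0_mem (u * ω' (ng k)))) (L.vv (ω + Pi.single k (u ^ 2 * ω (ng k)))).2
    calc c k u * (L.vv (ω + ω') : G) * (c k u)⁻¹ =
        (c k u * L.vv ω * (c k u)⁻¹) * (c k u * L.vv ω' * (c k u)⁻¹) := by rw [L.vv_add]; group
      _ = x0 (u * ω (ng k)) * (L.vv (ω + Pi.single k (u ^ 2 * ω (ng k))) * x0 (u * ω' (ng k))) *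
          L.vv (ω' + Pi.single k (u ^ 2 * ω' (ng k))) := by rw [h, h']; group
      _ = (x0 (u * ω (ng k)) * x0 (u * ω' (ng k))) * (L.vv (ω + Pi.single k (u ^ 2 * ω (ng k))) *
          L.vv (ω' + Pi.single k (u ^ 2 * ω' (ng k)))) := by rw [← h3]; group
      _ = x0 (u * ω (ng k) + u * ω' (ng k)) * L.vv ((ω + Pi.single k (u ^ 2 * ω (ng k))) +
          (ω' + Pi.single k (u ^ 2 * ω' (ng k)))) := by rw [L.x0_add, ← L.vv_add]
      _ = _ := by rw [e, Pi.add_apply, mul_add]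
  · intro j u'
    rw [L.vv_single]
    by_cases h1 : j = ng k
    · subst h1
      rw [Pi.single_eq_same, L.vv_add, L.vv_single, L.vv_single, L.c_v, mul_assoc, ← L.v_v]
    · rw [Pi.single_eq_of_ne (Ne.symm h1), mul_zero, mul_zero, Pi.single_zero, add_zero, zero_of_add L.x0_add, one_mul,
        L.vv_single, L.c_v' _ _ _ _ h1, mul_inv_cancel_right]

/-- conjugate under `P` to `x₀(r) v_(0,+)(α)`, `α ≠ 0` -/
def Good (x0 : F → G) (v : J → F → G) (z : Sp → F → G) (c : J → F → G) (l : J → J → F → G)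
    (th : (Fin 3 → Fˣ) →* G) (g : G) : Prop :=
  ∃ p ∈ Ps x0 v z c l th, ∃ r α, α ≠ 0 ∧ p * g * p⁻¹ = x0 r * v (0, true) α

omit L in
theorem Good.of_conj {g p : G} (hp : p ∈ Ps x0 v z c l th) (h : Good x0 v z c l th (p * g * p⁻¹)) :
    Good x0 v z c l th g := by
  obtain ⟨p', hp', r, α, h1, h2⟩ := h
  exact ⟨p' * p, mul_mem hp' hp, r, α, h1, by rw [← h2]; group⟩

theorem conj_x0 {p : G} (hp : p ∈ Ps x0 v z c l th) (r : F) (y : G) : p * (x0 r * y) * p⁻¹ = x0 r * (p * y * p⁻¹) := by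
  have h1 := L.XP (L.x0_mem r) hp
  calc p * (x0 r * y) * p⁻¹ = (p * x0 r) * y * p⁻¹ := by group
    _ = _ := by rw [← h1]; group

/-- only the coordinates `(0, ±)` -/
theorem good_C [Finite F] (r : F) (ω : J → F) (h1 : ω (0, true) ≠ 0) (h2 : ∀ j : J, j.1 ≠ 0 → ω j = 0) :
    Good x0 v z c l th (x0 r * L.vv ω) := by
  obtain ⟨u, hu⟩ := L.exists_sqrt (ω (0, false) * (ω (0, true))⁻¹)
  have hp : c (0, false) u ∈ Ps x0 v z c l th := c_mem _ _
  have hng : ng ((0, false) : J) = (0, true) := rfl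
  refine ⟨_, hp, r + u * ω (0, true), ω (0, true), h1, ?_⟩
  rw [L.conj_x0 hp, L.conj_c, hng, hu, ← mul_assoc, ← L.x0_add]
  congr 1
  have e : ω + Pi.single (0, false) (ω (0, false) * (ω (0, true))⁻¹ * ω (0, true)) = Pi.single (0, true) (ω (0, true)) := by
    funext j
    rw [inv_mul_cancel_right₀ h1, Pi.add_apply]
    by_cases hj : j.1 = 0
    · obtain ⟨j1, j2⟩ := j
      simp only at hj
      subst hj
      cases j2
      · rw [Pi.single_eq_same, L.two, Pi.single_eq_of_ne (by simp)]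
      · rw [Pi.single_eq_same, Pi.single_eq_of_ne (by simp), add_zero]
    · have h3 : j ≠ (0, false) := fun h => hj (by rw [h])
      have h4 : j ≠ (0, true) := fun h => hj (by rw [h])
      rw [Pi.single_eq_of_ne h3, Pi.single_eq_of_ne h4, add_zero, h2 j hj]
  rw [e, L.vv_single]

open scoped Classical in
theorem good_B [Finite F] (r : F) (n : ℕ) : ∀ ω : J → F, ω (0, true) ≠ 0 →
    (Finset.univ.filter fun j : J => j.1 ≠ 0 ∧ ω j ≠ 0).card ≤ n → Good x0 v z c l th (x0 r * L.vv ω) := by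
  induction n with
  | zero =>
    intro ω h1 h2
    refine L.good_C r ω h1 fun j hj => ?_
    by_contra h3
    have h4 : j ∈ Finset.univ.filter fun j : J => j.1 ≠ 0 ∧ ω j ≠ 0 := Finset.mem_filter.2 ⟨Finset.mem_univ _, hj, h3⟩
    rw [Finset.card_eq_zero.1 (Nat.le_zero.1 h2)] at h4
    exact absurd h4 (Finset.notMem_empty _)
  | succ n ih =>
    intro ω h1 h2
    by_cases h3 : ∃ j : J, j.1 ≠ 0 ∧ ω j ≠ 0
    · obtain ⟨j, hj, hω⟩ := h3
      have hne : ((0, false) : J).1 ≠ j.1 := Ne.symm hj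
      have hp : l (0, false) j (ω j * (ω (0, true))⁻¹) ∈ Ps x0 v z c l th := l_mem hne _
      refine Good.of_conj hp ?_
      rw [L.conj_x0 hp, L.conj_l hne]
      have hng : ng ((0, false) : J) = (0, true) := rfl
      rw [hng, inv_mul_cancel_right₀ h1]
      set ω' : J → F := ω + Pi.single j (ω j) + Pi.single (0, false) (ω j * (ω (0, true))⁻¹ * ω (ng j)) with hω'
      have e1 : ∀ i : J, i ≠ j → i ≠ (0, false) → ω' i = ω i := by
        intro i hi hi'
        rw [hω', Pi.add_apply, Pi.add_apply, Pi.single_eq_of_ne hi, Pi.single_eq_of_ne hi', add_zero, add_zero]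
      have hj0 : j ≠ (0, false) := fun h => hj (by rw [h])
      have e2 : ω' j = 0 := by
        rw [hω', Pi.add_apply, Pi.add_apply, Pi.single_eq_same, Pi.single_eq_of_ne hj0, add_zero, L.two]
      have e3 : ω' (0, true) = ω (0, true) := e1 _ (fun h => hj (by rw [← h])) (by simp)
      refine ih ω' (by rw [e3]; exact h1) ?_
      have h4 : (Finset.univ.filter fun i : J => i.1 ≠ 0 ∧ ω' i ≠ 0) ⊂
          (Finset.univ.filter fun i : J => i.1 ≠ 0 ∧ ω i ≠ 0) := by
        rw [Finset.ssubset_iff_of_subset]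
        · refine ⟨j, Finset.mem_filter.2 ⟨Finset.mem_univ _, hj, hω⟩, fun h => ?_⟩
          exact (Finset.mem_filter.1 h).2.2 e2
        · intro i hi
          obtain ⟨-, hi1, hi2⟩ := Finset.mem_filter.1 hi
          have hij : i ≠ j := fun h => hi2 (by rw [h]; exact e2)
          have hi0 : i ≠ (0, false) := fun h => hi1 (by rw [h])
          exact Finset.mem_filter.2 ⟨Finset.mem_univ _, hi1, by rw [← e1 i hij hi0]; exact hi2⟩
      have := Finset.card_lt_card h4
      omega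
    · push Not at h3
      exact L.good_C r ω h1 h3

theorem good_A [Finite F] (r : F) (ω : J → F) (h : ω ≠ 0) : Good x0 v z c l th (x0 r * L.vv ω) := by
  classical
  by_cases h1 : ω (0, true) ≠ 0
  · exact L.good_B r _ ω h1 le_rfl
  · rw [not_not] at h1
    obtain ⟨j, hj⟩ : ∃ j, ω j ≠ 0 := by
      by_contra h2
      push Not at h2
      exact h (funext h2)
    by_cases h2 : j.1 = 0
    · -- `j = (0, false)`
      have hj' : j = (0, false) := by
        obtain ⟨j1, j2⟩ := j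
        simp only at h2
        subst h2
        cases j2
        · rfl
        · exact absurd h1 hj
      subst hj'
      have hp : c (0, true) 1 ∈ Ps x0 v z c l th := c_mem _ _
      refine Good.of_conj hp ?_
      rw [L.conj_x0 hp, L.conj_c, ← mul_assoc, ← L.x0_add]
      refine L.good_B _ _ _ ?_ le_rfl
      rw [Pi.add_apply, Pi.single_eq_same, h1, zero_add, one_pow, one_mul]
      exact hj
    · have hne : (ng j).1 ≠ ((0, true) : J).1 := h2
      have hp : l (ng j) (0, true) 1 ∈ Ps x0 v z c l th := l_mem hne _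
      refine Good.of_conj hp ?_
      rw [L.conj_x0 hp, L.conj_l hne, ng_ng]
      refine L.good_B _ _ _ ?_ le_rfl
      have h3 : ((0, true) : J) ≠ ng j := fun h => hne (by rw [← h])
      rw [Pi.add_apply, Pi.add_apply, Pi.single_eq_same, Pi.single_eq_of_ne h3, add_zero, h1, zero_add, one_mul]
      exact hj

/-- **`P` is transitive on `V/X`.** -/
theorem transV [Finite F] {g : G} (hg : g ∈ Vs x0 v) (hX : g ∉ Xs x0) :
    ∃ p ∈ Ps x0 v z c l th, ∃ r α, α ≠ 0 ∧ p * g * p⁻¹ = x0 r * v (0, true) α := by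
  obtain ⟨r, ω, h⟩ := L.exists_coV hg
  rw [h.eq]
  refine L.good_A r ω fun h0 => hX ?_
  rw [h.eq, h0, L.vv_zero, mul_one]
  exact L.x0_mem r

/-- **`[g, Q] = X` for `g ∈ Q ∖ V`.** -/
theorem mix {g x : G} (hg : g ∈ Qs x0 v z) (hV : g ∉ Vs x0 v) (hx : x ∈ Xs x0) :
    ∃ q ∈ Qs x0 v z, q * g * q⁻¹ = g * x := by
  obtain ⟨a, ha⟩ := L.coQ_of_mem hg
  obtain ⟨b, rfl⟩ := L.mem_X.1 hx
  have h0 : a ≠ 0 := by
    rintro rfl
    exact hV (L.mem_V_of_coQ hg ha)
  obtain ⟨i, hi⟩ : ∃ i, a i ≠ 0 := by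
    by_contra h2
    push Not at h2
    exact h0 (funext h2)
  have h1 := ha (op i) (b * (a i)⁻¹)
  beta_reduce at h1
  rw [op_op, mul_comm b, mul_inv_cancel_left₀ hi] at h1
  refine ⟨z (op i) ((a i)⁻¹ * b), z_mem _ _, ?_⟩
  have h2 := L.XP (c := c) (l := l) (th := th) (L.x0_mem b) (Q_le_P hg)
  have h3 := L.x0_z b (op i) ((a i)⁻¹ * b)
  have h4 : g * z (op i) ((a i)⁻¹ * b) = x0 b * z (op i) ((a i)⁻¹ * b) * g := by
    rw [← h1]; group
  have h5 : x0 b * x0 b = 1 := self_of_add L.two L.x0_add b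
  calc z (op i) ((a i)⁻¹ * b) * g * (z (op i) ((a i)⁻¹ * b))⁻¹
      = (x0 b * x0 b) * z (op i) ((a i)⁻¹ * b) * g * (z (op i) ((a i)⁻¹ * b))⁻¹ := by rw [h5, one_mul]
    _ = x0 b * (x0 b * z (op i) ((a i)⁻¹ * b) * g) * (z (op i) ((a i)⁻¹ * b))⁻¹ := by group
    _ = x0 b * (g * z (op i) ((a i)⁻¹ * b)) * (z (op i) ((a i)⁻¹ * b))⁻¹ := by rw [h4]
    _ = x0 b * g := by group
    _ = g * x0 b := h2

/-- `[Q, Q] = X` -/
theorem comm_eq : ⁅Qs x0 v z, Qs x0 v z⁆ = Xs x0 := by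
  refine le_antisymm ?_ L.X_le_comm
  rw [commutator_le]
  intro a ha b hb
  rw [commutatorElement_def]
  exact L.QQ ha hb

/-- `U = Z(Q)` -/
theorem V_eq : Vs x0 v = Qs x0 v z ⊓ centralizer (Qs x0 v z : Set G) := by
  apply le_antisymm
  · intro y hy
    exact ⟨V_le_Q hy, mem_centralizer_iff.2 fun q hq => (L.VQ hy hq).symm⟩
  · rintro y ⟨h1, h2⟩
    exact L.ZQ h1 fun q hq => (mem_centralizer_iff.1 h2 q hq).symm

/-- the field `irr` -/
theorem irr_eq {C T : Subgroup G} (hC : Ps x0 v z c l th ≤ C) (hT : T ≤ Qs x0 v z)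
    (hn : C ≤ normalizer (T : Set G)) (h : Qs x0 v z ⊓ centralizer (T : Set G) ≤ T) : T = Qs x0 v z := by
  have h1 : Vs x0 v ≤ T := by
    refine le_trans (fun y hy => ?_) h
    exact ⟨V_le_Q hy, mem_centralizer_iff.2 fun q hq => (L.VQ hy (hT hq)).symm⟩
  rcases L.irrQ h1 hT (fun p hp r hr => (mem_normalizer_iff.1 (hn (hC hp)) r).1 hr) with h2 | h2
  · exfalso
    obtain ⟨q, hq, hq'⟩ := L.neQ
    refine hq' ?_
    rw [← h2]
    refine h ⟨hq, mem_centralizer_iff.2 fun y hy => ?_⟩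
    rw [h2] at hy
    exact L.VQ hy hq
  · exact h2

end Cfsg.Agent.Omega.All.F4K.LocA

end
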